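import Groth.Agent.Lib.GenFlatStrat4.Noeth
import Groth.Agent.Lib.Descend.Stage
import Groth.Agent.Lib.EffCartier.FiniteType
import Groth.Agent.S7383
import Groth.Agent.S0591
import Groth.Agent.S4788
import Mathlib

/-!
# Generic flatness stratification by Noetherian approximation
-/

set_option autoImplicit false
set_option backward.isDefEq.respectTransparency.types false
universe u

open CategoryTheory CategoryTheory.Limits AlgebraicGeometry TopologicalSpace

namespace Groth.Agent.GenFlatStrat4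

/-- A finitely presented module on a finitely presented scheme over a qcqs base comes from a
Noetherian base. -/
theorem exists_model {X S : Scheme.{u}} (f : X ⟶ S) [LocallyOfFinitePresentation f] [QuasiCompact f]
    [QuasiSeparated f] [CompactSpace S] [QuasiSeparatedSpace S] (F : X.Modules) (hq : Coh.IsQCoh F)
    (hfp : CohB1.IsFP F) :
    ∃ (S₀ X₀ : Scheme.{u}) (π : S ⟶ S₀) (f₀ : X₀ ⟶ S₀) (q : X ⟶ X₀) (F₀ : X₀.Modules),
      IsNoetherian S₀ ∧ LocallyOfFiniteType f₀ ∧ QuasiCompact f₀ ∧ Coh.IsCoh F₀ ∧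
      IsPullback q f f₀ π ∧ Nonempty ((Scheme.Modules.pullback q).obj F₀ ≅ F) := by
  haveI : Coh.IsQCoh F := hq
  let Z₀ : Scheme.{u} := Spec (CommRingCat.of (ULift.{u} ℤ))
  haveI : IsNoetherianRing (CommRingCat.of (ULift.{u} ℤ)) :=
    isNoetherianRing_of_ringEquiv ℤ ULift.ringEquiv.symm
  obtain ⟨I, _, _, _, D, c, hc, hD, haff, ⟨e₀⟩⟩ :=
    S7383.result (specULiftZIsTerminal.from S : S ⟶ Z₀)
  haveI : IsConnected (Iᵒᵖ) := IsCofiltered.isConnected _
  let D₁ := D ⋙ Over.forget _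
  let c₁ := (Over.forget _).mapCone c
  have hc₁ : IsLimit c₁ := isLimitOfPreserves (Over.forget _) hc
  haveI : ∀ {i j : Iᵒᵖ} (a : i ⟶ j), IsAffineHom (D₁.map a) := fun a => haff _ _ a
  haveI : ∀ i, CompactSpace (D₁.obj i) := fun i => by
    let p : D₁.obj i ⟶ Z₀ := (D.obj i).hom
    haveI : QuasiCompact p := (hD i).2.1
    exact QuasiCompact.compactSpace_of_compactSpace p
  haveI : ∀ i, QuasiSeparatedSpace (D₁.obj i) := fun i => by
    let p : D₁.obj i ⟶ Z₀ := (D.obj i).hom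
    haveI : QuasiSeparated p := (hD i).2.2
    exact quasiSeparatedSpace_of_quasiSeparated p
  haveI hnoe : ∀ i, IsLocallyNoetherian (D₁.obj i) := fun i => by
    let p : D₁.obj i ⟶ Z₀ := (D.obj i).hom
    haveI : LocallyOfFinitePresentation p := (hD i).1
    exact LocallyOfFiniteType.isLocallyNoetherian p
  let e : c₁.pt ≅ S := (Over.forget _).mapIso e₀
  let fc : X ⟶ c₁.pt := f ≫ e.inv
  obtain ⟨i, Xi, fi, g, hfi, hfiqc, _, hg⟩ := S0591.result D₁ c₁ hc₁ X fc
  let G := Over.forget i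
  let t := Descend.overT D₁ i
  have hc' : IsLimit (c₁.whisker G) := (Functor.Initial.isLimitWhiskerEquiv G c₁).symm hc₁
  have hq₀ : ∀ k, (c₁.whisker G).π.app k ≫ t.app k = c₁.π.app i := fun k => c₁.w k.hom
  let cX := Descend.pbCone (G ⋙ D₁) t fi (c₁.whisker G) hq₀ hg
  have hcX : IsLimit cX := Descend.pbIsLimit (G ⋙ D₁) t fi (c₁.whisker G) hq₀ hg hc'
  haveI : CompactSpace Xi := QuasiCompact.compactSpace_of_compactSpace fi
  haveI : QuasiSeparatedSpace Xi := quasiSeparatedSpace_of_quasiSeparated fi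
  haveI : ∀ (k l : Over i) (a : k ⟶ l), IsAffineHom ((Descend.pbDiagram (G ⋙ D₁) t fi).map a) :=
    fun k l a => inferInstance
  haveI : Coh.IsQCoh (X := cX.pt) F := hq
  obtain ⟨k, -, Fk, hFk, hFkfp, ⟨eF⟩⟩ :=
    S4788.result (Descend.pbDiagram (G ⋙ D₁) t fi) cX hcX (Over.mk (𝟙 i)) (F : cX.pt.Modules) hfp
  have hsq := Descend.pbCone_isPullback (G ⋙ D₁) t fi (c₁.whisker G) hq₀ hg k
  have hsq' : IsPullback (cX.π.app k) f (pullback.snd fi (t.app k)) (e.inv ≫ c₁.π.app k.left) :=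
    hsq.of_iso (Iso.refl _) (Iso.refl _) e (Iso.refl _) (by simp [cX])
      (by show (f ≫ e.inv) ≫ e.hom = 𝟙 _ ≫ f
          erw [Category.assoc, Iso.inv_hom_id, Category.comp_id])
      ((Category.comp_id _).trans (Category.id_comp _).symm)
      (by show c₁.π.app k.left ≫ 𝟙 _ = e.hom ≫ e.inv ≫ c₁.π.app k.left
          erw [Category.comp_id, Iso.hom_inv_id_assoc])
  haveI : IsNoetherian (D₁.obj k.left) := ⟨⟩
  haveI : LocallyOfFiniteType fi := inferInstance
  haveI : LocallyOfFiniteType (pullback.snd fi (t.app k)) :=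
    MorphismProperty.pullback_snd (P := @LocallyOfFiniteType) _ _ ‹_›
  haveI : IsLocallyNoetherian ((G ⋙ D₁).obj k) := hnoe k.left
  let φ : (Descend.pbDiagram (G ⋙ D₁) t fi).obj k ⟶ D₁.obj k.left := pullback.snd fi (t.app k)
  haveI hφ : LocallyOfFiniteType φ := ‹LocallyOfFiniteType (pullback.snd fi (t.app k))›
  haveI : IsLocallyNoetherian ((Descend.pbDiagram (G ⋙ D₁) t fi).obj k) :=
    LocallyOfFiniteType.isLocallyNoetherian φ
  exact ⟨D₁.obj k.left, _, e.inv ≫ c₁.π.app k.left, pullback.snd fi (t.app k), cX.π.app k, Fk,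
    inferInstance, ‹_›, MorphismProperty.pullback_snd (P := @QuasiCompact) _ _ hfiqc,
    (M1.isCoh_iff_isFP Fk).mpr hFkfp, hsq', ⟨eF⟩⟩

/-- Flatness along a morphism is inherited after base change. -/
theorem flatAlong_of_isPullback {X S X₀ S₀ T T₀ : Scheme.{u}} {f : X ⟶ S} {f₀ : X₀ ⟶ S₀} {q : X ⟶ X₀}
    {π : S ⟶ S₀} (H : IsPullback q f f₀ π) (F₀ : X₀.Modules) [Coh.IsQCoh F₀] {F : X.Modules}
    (e : (Scheme.Modules.pullback q).obj F₀ ≅ F) (g₀ : T₀ ⟶ S₀) (h : FlatAlong f₀ F₀ g₀)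
    (g : T ⟶ S) (a : T ⟶ T₀) (hag : a ≫ g₀ = g ≫ π) : FlatAlong f F g := by
  intro x
  let gX : pullback f g ⟶ pullback f₀ g₀ :=
    pullback.lift (pullback.fst _ _ ≫ q) (pullback.snd _ _ ≫ a) (by
      rw [Category.assoc, H.w, pullback.condition_assoc, Category.assoc, hag])
  have hsq : IsPullback gX (pullback.snd f g) (pullback.snd f₀ g₀) a := by
    refine IsPullback.of_right ?_ (pullback.lift_snd _ _ _) (IsPullback.of_hasPullback f₀ g₀)
    rw [pullback.lift_fst, hag]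
    exact (IsPullback.of_hasPullback f g).paste_horiz H
  haveI := M1.isQCoh_pullback (pullback.fst f₀ g₀) (M := F₀) inferInstance
  have h1 := FlatH4.isFlatOverAt_baseChange hsq ((Scheme.Modules.pullback (pullback.fst f₀ g₀)).obj F₀) x
    (h _)
  refine SchDom.isFlatOverAt_of_iso _ ?_ x h1
  exact (Scheme.Modules.pullbackComp gX (pullback.fst f₀ g₀)).app F₀ ≪≫
    (Scheme.Modules.pullbackCongr (pullback.lift_fst _ _ _)).app F₀ ≪≫
    ((Scheme.Modules.pullbackComp (pullback.fst f g) q).app F₀).symm ≪≫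
    (Scheme.Modules.pullback (pullback.fst f g)).mapIso e

end Groth.Agent.GenFlatStrat4
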