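import Groth.Agent.Lib.FlatH4.GenFlatScheme
import Groth.Agent.Lib.FlatH4.PullFlat
import Groth.Agent.Lib.ModM1.Coh
import Groth.Agent.Lib.BMCoh.Pieces
import Groth.Agent.Lib.SchDom.FlatStage
import Mathlib

/-!
# Generic flatness stratification over a Noetherian scheme
-/

set_option autoImplicit false
set_option backward.isDefEq.respectTransparency.types false
universe u

open CategoryTheory CategoryTheory.Limits AlgebraicGeometry TopologicalSpace

namespace Groth.Agent.GenFlatStrat4

/-- Transitivity of flatness under base change along a further morphism. -/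
theorem isFlatOver_comp {X S T T' : Scheme.{u}} (f : X ⟶ S) (F : X.Modules) [Coh.IsQCoh F] (g : T ⟶ S)
    (a : T' ⟶ T)
    (h : ∀ x : ↑(pullback f g), (∃ y : T', a y = pullback.snd f g x) →
      FlatMod.IsFlatOverAt (pullback.snd f g) ((Scheme.Modules.pullback (pullback.fst f g)).obj F) x) :
    FlatMod.IsFlatOver (pullback.snd f (a ≫ g))
      ((Scheme.Modules.pullback (pullback.fst f (a ≫ g))).obj F) := by
  intro x
  let gX : pullback f (a ≫ g) ⟶ pullback f g :=
    pullback.lift (pullback.fst _ _) (pullback.snd _ _ ≫ a) (by rw [Category.assoc, pullback.condition])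
  have hsq : IsPullback gX (pullback.snd f (a ≫ g)) (pullback.snd f g) a := by
    refine IsPullback.of_right ?_ (pullback.lift_snd _ _ _) (IsPullback.of_hasPullback f g)
    rw [pullback.lift_fst]
    exact IsPullback.of_hasPullback f (a ≫ g)
  haveI := M1.isQCoh_pullback (pullback.fst f g) (M := F) inferInstance
  have h1 := FlatH4.isFlatOverAt_baseChange hsq ((Scheme.Modules.pullback (pullback.fst f g)).obj F) x
    (h _ ⟨pullback.snd f (a ≫ g) x, by
      rw [← Scheme.Hom.comp_apply, ← hsq.w, Scheme.Hom.comp_apply]⟩)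
  exact SchDom.isFlatOverAt_of_iso _ ((Scheme.Modules.pullbackComp gX (pullback.fst f g)).app F ≪≫
    (Scheme.Modules.pullbackCongr (pullback.lift_fst _ _ _)).app F) x h1

/-- Any nonempty reduced Noetherian scheme has a nonempty integral open subscheme. -/
theorem exists_integral_open (T : Scheme.{u}) [IsReduced T] [IsNoetherian T] [Nonempty T] :
    ∃ W : T.Opens, IsIntegral W := by
  obtain ⟨C, hC⟩ : (irreducibleComponents T).Nonempty :=
    ⟨irreducibleComponent (Classical.arbitrary T), irreducibleComponent_mem_irreducibleComponents _⟩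
  have hfin := NoetherianSpace.finite_irreducibleComponents (α := T)
  let R : Set T := ⋃ D ∈ irreducibleComponents T \ {C}, D
  have hR : IsClosed R := (hfin.subset Set.sdiff_subset).isClosed_biUnion
    fun D hD => isClosed_of_mem_irreducibleComponents D hD.1
  let W : T.Opens := ⟨Rᶜ, hR.isOpen_compl⟩
  have hWC : (W : Set T) ⊆ C := by
    intro x hx
    by_contra hxC
    have hm := irreducibleComponent_mem_irreducibleComponents x
    exact hx (Set.mem_biUnion ⟨hm, fun h => hxC (h ▸ mem_irreducibleComponent)⟩ mem_irreducibleComponent)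
  have hne : (W : Set T).Nonempty := by
    by_contra h
    have hCR : C ⊆ R := fun x _ => by_contra fun hx => h ⟨x, hx⟩
    obtain ⟨D, hD, hCD⟩ := (isIrreducible_iff_sUnion_isClosed.mp hC.1)
      (hfin.subset (Set.sdiff_subset (t := {C}))).toFinset
      (fun z hz => isClosed_of_mem_irreducibleComponents z ((Set.Finite.mem_toFinset _).mp hz).1)
      (by simpa [R, Set.sUnion_eq_biUnion] using hCR)
    rw [Set.Finite.mem_toFinset] at hD
    exact hD.2 (hC.eq_of_subset hD.1.1 hCD).symm
  haveI : IrreducibleSpace W := by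
    exact Subtype.irreducibleSpace (s := (W : Set T)) ⟨hne, hC.1.2.open_subset W.2 hWC⟩
  exact ⟨W, isIntegral_of_irreducibleSpace_of_isReduced _⟩

/-- Inclusion of the stratum `Z \ Z'` with the reduced structure on `Z`. -/
noncomputable def stratum {S : Scheme.{u}} (Z Z' : Closeds S) :
    ((Scheme.IdealSheafData.vanishingIdeal Z).subschemeι ⁻¹ᵁ Z'.compl).toScheme ⟶ S :=
  ((Scheme.IdealSheafData.vanishingIdeal Z).subschemeι ⁻¹ᵁ Z'.compl).ι ≫
    (Scheme.IdealSheafData.vanishingIdeal Z).subschemeι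

/-- `F` becomes flat after base change along `g`. -/
def FlatAlong {X S T : Scheme.{u}} (f : X ⟶ S) (F : X.Modules) (g : T ⟶ S) : Prop :=
  FlatMod.IsFlatOver (pullback.snd f g) ((Scheme.Modules.pullback (pullback.fst f g)).obj F)

/-- `F` is flat over the stratum `Z \ Z'`. -/
def Good {X S : Scheme.{u}} (f : X ⟶ S) (F : X.Modules) (Z Z' : Closeds S) : Prop :=
  FlatAlong f F (stratum Z Z')

theorem exists_good {X S : Scheme.{u}} [IsNoetherian S] (f : X ⟶ S) [LocallyOfFiniteType f]
    [QuasiCompact f] (F : X.Modules) (hF : Coh.IsCoh F) (Z : Closeds S) (hZ : Z ≠ ⊥) :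
    ∃ Z' : Closeds S, Z' < Z ∧ Good f F Z Z' := by
  haveI : Coh.IsQCoh F := hF.1
  let J := Scheme.IdealSheafData.vanishingIdeal Z
  let T := J.subscheme
  let ι := J.subschemeι
  haveI : IsReduced T := RedSepLib.isReduced_vanishingIdeal_subscheme _
  haveI : IsLocallyNoetherian T := LocallyOfFiniteType.isLocallyNoetherian ι
  haveI : CompactSpace T := QuasiCompact.compactSpace_of_compactSpace ι
  haveI : IsNoetherian T := ⟨⟩
  have hrange : Set.range ι = (Z : Set S) := by
    rw [Scheme.IdealSheafData.range_subschemeι, Scheme.IdealSheafData.coe_support_vanishingIdeal]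
  haveI : Nonempty T := by
    by_contra h
    rw [not_nonempty_iff] at h
    exact hZ (Closeds.ext (by rw [← hrange, Set.range_eq_empty]; rfl))
  obtain ⟨W, hW⟩ := exists_integral_open T
  haveI := hW
  let g : (W : Scheme.{u}) ⟶ S := W.ι ≫ ι
  have hcoh := M1.isCoh_pullback (pullback.fst f g) hF
  haveI : Coh.IsQCoh ((Scheme.Modules.pullback (pullback.fst f g)).obj F) := hcoh.1
  obtain ⟨U, hUne, hU⟩ := FlatH4.exists_open_isFlatOverAt (pullback.snd f g)
    ((Scheme.Modules.pullback (pullback.fst f g)).obj F)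
    (fun V hV => M1.finite_sections hcoh.1 hcoh.2 hV)
  let U' : T.Opens := W.ι ''ᵁ U
  let Z' : Closeds S := ⟨ι '' (U' : Set T)ᶜ, ι.isClosedEmbedding.isClosedMap _ U'.2.isClosed_compl⟩
  have hpre : ι ⁻¹ᵁ Z'.compl = U' := by
    ext x
    show ι x ∉ ι '' (U' : Set T)ᶜ ↔ x ∈ U'
    rw [ι.isClosedEmbedding.injective.mem_set_image]
    exact not_not
  refine ⟨Z', ⟨?_, ?_⟩, ?_⟩
  · show ι '' _ ⊆ (Z : Set S)
    rw [← hrange]; exact Set.image_subset_range _ _
  · intro hle
    obtain ⟨w, hw⟩ := hUne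
    have hwU : W.ι w ∈ U' := ⟨w, hw, rfl⟩
    rw [← hpre] at hwU
    exact hwU (hle (show ι (W.ι w) ∈ (Z : Set S) by rw [← hrange]; exact ⟨_, rfl⟩))
  · have hUW : ι ⁻¹ᵁ Z'.compl ≤ W := by rw [hpre]; exact Scheme.Hom.image_le_opensRange _ _ |>.trans (by simp)
    have hst : stratum Z Z' = T.homOfLE hUW ≫ g := by
      show (ι ⁻¹ᵁ Z'.compl).ι ≫ ι = _ ≫ W.ι ≫ ι
      rw [Scheme.homOfLE_ι_assoc]
    unfold Good
    rw [hst]
    refine isFlatOver_comp f F g _ fun x ⟨y, hy⟩ => hU x ?_
    rw [← hy]
    have h1 : W.ι (T.homOfLE hUW y) ∈ U' := by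
      rw [← Scheme.Hom.comp_apply, Scheme.homOfLE_ι, ← hpre]
      exact y.2
    obtain ⟨z, hz, hzy⟩ := h1
    rwa [W.ι.isOpenEmbedding.injective hzy] at hz

/-- Finite chain of closed subsets with flat strata. -/
theorem exists_chain {X S : Scheme.{u}} [IsNoetherian S] (f : X ⟶ S) [LocallyOfFiniteType f]
    [QuasiCompact f] (F : X.Modules) (hF : Coh.IsCoh F) (Z : Closeds S) :
    ∃ (t : ℕ) (C : Fin (t + 1) → Closeds S), Antitone C ∧ C 0 = Z ∧ C (Fin.last t) = ⊥ ∧
      ∀ i : Fin t, Good f F (C i.castSucc) (C i.succ) := by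
  induction Z using WellFoundedLT.induction with
  | _ Z ih =>
    by_cases hZ : Z = ⊥
    · exact ⟨0, fun _ => Z, fun _ _ _ => le_rfl, rfl, hZ, fun i => i.elim0⟩
    obtain ⟨Z', hlt, hgood⟩ := exists_good f F hF Z hZ
    obtain ⟨t, C, hC, hC0, hCt, hCg⟩ := ih Z' hlt
    refine ⟨t + 1, Fin.cons Z C, ?_, rfl, ?_, ?_⟩
    · refine Fin.antitone_iff_succ_le.mpr fun i => ?_
      induction i using Fin.cases with
      | zero => simp [hC0, hlt.le]
      | succ i => simpa [Fin.cons_succ, ← Fin.succ_castSucc] using hC (Fin.castSucc_le_succ i)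
    · rw [← Fin.succ_last, Fin.cons_succ, hCt]
    · intro i
      induction i using Fin.cases with
      | zero => simpa [hC0] using hgood
      | succ i => simpa [Fin.cons_succ, ← Fin.succ_castSucc] using hCg i

end Groth.Agent.GenFlatStrat4
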